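import Cfsg.Agent.Mxc.B

/-! An elementary abelian essential subgroup of order `p ^ 3` in a group of maximal class. -/

set_option autoImplicit false
set_option linter.unusedSectionVars false
set_option linter.unusedVariables false

namespace CF.Mxc

open Cfsg Subgroup CF.Fus CF.FusC
open scoped commutatorElement

universe u

variable {G : Type u} [Group G] {p t i j k r : ℕ} {A B C D E N P R S T U X Y : Subgroup G} {L K : ℕ → Subgroup G}
  {a b c d e g s u v w x y z σ τ : G} {l m : ℤ}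

/-- the configuration to be refuted -/
structure St (p t : ℕ) (S : Subgroup G) (L K : ℕ → Subgroup G) (E N C D : Subgroup G) : Prop where
  p5 : 5 ≤ p
  m : MX p t S L K
  sat : Sat (FT S) p
  ess : (FT S).IsEssential p E
  eN : NS S E = N
  q : QT p E N C D
  fr : Fr E = ⊥
  cE : Nat.card E = p ^ 3

variable [Fact p.Prime] [Finite G]

theorem card_up (h : A ≤ B) (hi : A.relIndex B = p) (hc : Nat.card A = p ^ k) : Nat.card B = p ^ (k + 1) := by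
  rw [card_eq_mul' h, hi, hc, pow_succ]

theorem card_dn (h : A ≤ B) (hi : A.relIndex B = p) (hc : Nat.card B = p ^ (k + 1)) : Nat.card A = p ^ k := by
  rw [card_eq_mul' h, hi, pow_succ] at hc
  exact Nat.eq_of_mul_eq_mul_right (Fact.out : p.Prime).pos hc

theorem idx_of_card (h : A ≤ B) (h1 : Nat.card A = p ^ k) (h2 : Nat.card B = p ^ (k + 1)) : A.relIndex B = p := by
  rw [card_eq_mul' h, h1, pow_succ] at h2
  exact Nat.eq_of_mul_eq_mul_left (pow_pos (Fact.out : p.Prime).pos _) h2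

theorem eq_of_card (h : A ≤ B) (h1 : Nat.card A = p ^ k) (h2 : Nat.card B = p ^ k) : A = B :=
  eq_of_le_of_card_ge h (h2.trans h1.symm).le

theorem nm_elt (h : ∀ x ∈ A, ⁅x, g⁆ ∈ A) : g ∈ Nm A := Tr.n1 (mem_Tr_of_le le_rfl h)

namespace St

theorem p2 (h : St p t S L K E N C D) : p ≠ 2 := by have := h.p5; omega
theorem nS (h : St p t S L K E N C D) : N ≤ S := h.eN ▸ NS_le
theorem eS (h : St p t S L K E N C D) : E ≤ S := h.q.le.trans h.nS
theorem el (h : St p t S L K E N C D) : El p ⊥ E := h.fr ▸ h.q.eF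
theorem ab (h : St p t S L K E N C D) : E ≤ Cn E := le_Cn_of_bot h.el.1
theorem cD (h : St p t S L K E N C D) : N ≤ Cn D := fun _ a => mem_Tr_bot.1 (h.fr ▸ h.q.t2 a)
theorem cen (h : St p t S L K E N C D) (hx : x ∈ S) (e : x ∈ Cn E) : x ∈ E := h.sat.ess_centric h.ess ⟨hx, e⟩
theorem mN (h : St p t S L K E N C D) (hx : x ∈ S) (e : ∀ y ∈ E, ⁅y, x⁆ ∈ E) : x ∈ N := h.eN.le ⟨hx, nm_elt e⟩
theorem cN (h : St p t S L K E N C D) : Nat.card N = p ^ 4 := card_up h.q.le h.q.idx h.cE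
theorem kD (h : St p t S L K E N C D) : Nat.card D = p ^ 2 := card_dn h.q.de h.q.i1 h.cE
theorem kC (h : St p t S L K E N C D) : Nat.card C = p ^ 1 := card_dn h.q.cd h.q.i2 h.kD

theorem zE (h : St p t S L K E N C D) : L (t + 3) ≤ E := fun _ a =>
  h.cen (h.m.le a) (Cn_symm (h.eS.trans h.m.cZ) a)

theorem nD (h : St p t S L K E N C D) (h1 : N ≤ T) (h2 : T ≤ S) (h3 : T ≤ Cn D) : Nm T ≤ Nm D := fun g hg => by
  have : T ⊓ Cn T = D := le_antisymm (fun x a => h.q.cen (h.q.le (h.cen (h2 a.1)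
    (centralizer_le (h.q.le.trans h1) a.2))) fun y b => comm_symm (bot_of_Cn a.2 (h1 b)))
    (le_inf (h.q.dn.trans h1) (Cn_symm h3))
  exact this ▸ norm_inf hg (norm_Cn hg)

theorem lt (h : St p t S L K E N C D) : N < S := lt_of_le_of_ne h.nS fun c => by
  have := h.cN
  rw [c, h.m.card] at this
  have := Nat.pow_right_injective (Fact.out : p.Prime).two_le this
  omega

theorem fn (h : St p t S L K E N C D) (h1 : N ≤ T) (h2 : T < S) (h3 : T ≤ Cn D) : (FT S).IsFullyNormalized T :=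
  fn_of h.sat h.ess h.eN h.q.de h1 h2 h.q.i1 h.q.idx (h.nD h1 h2.le h3)

theorem nn (h : St p t S L K E N C D) : ∃ A, NN p E N (NS S N) C D A := by
  obtain ⟨e, he, he'⟩ := exists_of_prime h.q.i1
  obtain ⟨s, hs, hs'⟩ := exists_of_prime h.q.idx
  refine exists_nn h.sat h.p2 h.ess h.eN (h.fn le_rfl h.lt h.cD) h.lt h.q (h.nD le_rfl h.nS h.cD)
    (idx_le_of_sq' h.q.pgD (bot_lt_iff_ne_bot.2 fun c => h.q.nd e he he' s hs hs' (bot_le (α := Subgroup G) ?_))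
      ((h.q.eD h.p2).Fr_le le_rfl) (by rw [relIndex_bot_left, h.kD]))
  exact c ▸ (el_Fr h.q.pg).1 e (h.q.le he) s hs

theorem cC (h : St p t S L K E N C D) (hτ : τ ∈ LL E N) : τ ∈ Cn C := mem_Tr_bot.1 (h.fr ▸ h.q.tl hτ)

theorem cR (h : St p t S L K E N C D) (n : NN p E N R C D A) : R ≤ Cn C ∧ A ≤ Cn A ∧ R ≤ Cn D := by
  obtain ⟨l, m, h1, h2, h3, -⟩ := exists_prim5 h.p5
  obtain ⟨τ, τ1⟩ := n.tor h1
  have a := h.cD.trans (centralizer_le h.q.cd)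
  have b := n.abA τ1 (h.cC τ1.mem) a h3
  have c := n.cenR τ1 (h.cC τ1.mem) a b h3 h2
  obtain ⟨-, b2, -, b4, b5⟩ := n.exists_B c b
  exact ⟨c, b, ((eq_or_eq_of_prime b4 (le_inf inf_le_left b5) inf_le_left).resolve_left fun d =>
    not_le_of_prime n.i2 ((le_inf ((le_inf n.nr h.cD).trans d.le) le_rfl).trans b2.le)).ge.trans inf_le_right⟩

theorem kR (h : St p t S L K E N C D) (n : NN p E N R C D A) : Nat.card R = p ^ 5 := card_up n.nr n.idx h.cN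

theorem inM (h : St p t S L K E N C D) : E ≤ K (t + 2) := fun e he => by_contra fun he' => by
  have M := h.m
  obtain ⟨A, n⟩ := h.nn
  have rD := (h.cR n).2.2
  have z2 : L (t + 2) ≤ N := fun _ a => h.mN (M.le a) fun _ b => h.zE (comm_symm (M.c1 a (h.eS b) le_rfl))
  have dM : D ≤ K (t + 2) := fun _ a => M.mM.2 ⟨h.eS (h.q.de a), Cn_symm (z2.trans h.cD) a⟩
  have ce : ∀ d ∈ D, ⁅d, e⁆ = 1 := fun d a => mem_Cn_comm.1 (h.ab he) d (h.q.de a)
  have d1 : D ≤ L 1 := fun d a => by_contra fun b =>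
    M.gen2 (dM a) b (h.eS he) he' (comm_symm (ce d a ▸ one_mem _))
  obtain ⟨d, hd, hd'⟩ : ∃ d ∈ D, d ∉ L (t + 2) := SetLike.not_le_iff_exists.1 fun c => he' (M.mM.2 ⟨h.eS he,
    eq_of_card c h.kD (M.cl _ 2 (by omega) rfl) ▸ h.cD (h.q.le he)⟩)
  obtain ⟨r, r1, r2, r3, r4⟩ := M.lev (d1 hd) _ hd'
  have eK : e ∈ K 1 := (M.bla r1 (by omega)).le (M.kof r1 r3 r4 (h.eS he) (ce d hd ▸ one_mem _))
  have EK : E ≤ K 1 := sup_zpowers_eq h.q.i1 h.q.de he (fun c => he' (dM c)) ▸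
    sup_le (d1.trans (M.l1 le_rfl)) (zpowers_le.2 eK)
  have z3 : L (t + 1) ≤ N := fun _ a => h.mN (M.le a) fun _ b =>
    h.zE (comm_symm (M.kc (by omega) le_rfl (EK b) a))
  have i3 := idx_of_card z3 (M.cl _ 3 (by omega) rfl) h.cN
  have eN := sup_zpowers_eq i3 z3 (h.q.le he) fun c => he' (M.l1 (by omega) c)
  have lR : ∀ r, 1 ≤ r → r ≤ t + 1 → t ≤ r + 1 → L r ≤ NS S N := fun r a1 a2 a3 u a =>
    ⟨M.le a, nm_elt fun _ b => z3 (comm_of_sup (h.nS.trans M.nm) eN (fun _ c => M.c1 c (M.le a) (by omega))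
      (comm_symm (M.anti (by omega) (M.kc a1 a2 eK a))) b)⟩
  obtain ⟨x, x1, x2⟩ : ∃ x ∈ K (t + 2), x ∉ K 1 := SetLike.not_le_iff_exists.1 fun c => he' (M.keq c eK)
  obtain ⟨⟨k, hk⟩, u, hu, v, hv, uv⟩ := M.exc x1 x2
  rcases Nat.eq_zero_or_pos k with rfl | hk'
  · have d3 : d ∈ L (t + 1) :=
      ((eq_or_eq_of_prime i3 (le_inf z3 (M.l1 (r := t + 2) (by omega))) inf_le_left).resolve_right fun c =>
        he' (c.ge (h.q.le he)).2).le ⟨h.q.dn hd, dM hd⟩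
    refine uv (mem_bot.1 (comm_symm (comm_of_sup le_Nm_bot (sup_zpowers_eq (M.idx (by omega) (by omega))
      (M.anti (Nat.le_succ _)) d3 hd') (fun _ c => mem_bot.2 (M.one c hu (by omega)))
      (bot_of_Cn (rD (lR 1 le_rfl (by omega) (by omega) hu)) hd) hv)))
  · exact he' (M.l1 (by omega) ((eq_of_card (lR (t - 1) (by omega) (by omega) (by omega))
      (M.cl _ 5 (by omega) (by omega)) (h.kR n)).ge (n.nr (h.q.le he))))

theorem z2 (h : St p t S L K E N C D) : L (t + 2) ≤ E := fun _ a =>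
  h.cen (h.m.le a) (Cn_symm (fun _ b => (h.m.mM.1 (h.inM b)).2) a)

theorem z3 (h : St p t S L K E N C D) : L (t + 1) ≤ N := fun _ a =>
  h.mN (h.m.le a) fun _ b => h.z2 (comm_symm (h.m.c1 a (h.eS b) le_rfl))

theorem eD (h : St p t S L K E N C D) : L (t + 2) = D := by
  have M := h.m
  have a : E ⊔ L (t + 1) = N := (eq_or_eq_of_prime h.q.idx le_sup_left (sup_le h.q.le h.z3)).resolve_left fun c =>
    h.lt.not_ge fun s hs => h.eN.le ⟨hs, eq_of_card (le_sup_right.trans c.le) (M.cl _ 3 (by omega) rfl) h.cE ▸ M.nm hs⟩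
  have b : N ≤ K (t + 2) := a ▸ sup_le h.inM (M.l1 (by omega))
  exact eq_of_card (fun u c => h.q.cen (h.q.le (h.z2 c)) fun y d => bot_of_Cn (M.mM.1 (b d)).2 c)
    (M.cl _ 2 (by omega) rfl) h.kD

theorem i3 (h : St p t S L K E N C D) : (L (t + 1)).relIndex N = p :=
  idx_of_card h.z3 (h.m.cl _ 3 (by omega) rfl) h.cN

theorem eA (h : St p t S L K E N C D) (n : NN p E N R C D A) (hR : R ≤ S) : L (t + 1) = A := by_contra fun c => by
  have a : A ⊔ L (t + 1) = N := (eq_or_eq_of_prime n.i2 le_sup_left (sup_le n.an h.z3)).resolve_left fun d =>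
    not_le_of_ne h.i3 n.i2 n.an c (le_sup_right.trans d.le)
  obtain ⟨e, he, he'⟩ := exists_of_prime h.q.i1
  obtain ⟨r, hr, hr'⟩ := exists_of_prime n.idx
  exact n.nd e he he' r hr hr' (comm_of_sup2 (a.le.trans h.q.nD) (fun _ b => Tr.comm (n.t2 hr) b)
    (fun _ b => h.eD ▸ h.m.c1 b (hR hr) le_rfl) (a.ge (h.q.le he)))

theorem nR (h : St p t S L K E N C D) (n : NN p E N R C D A) : ¬ S ≤ R := fun c =>
  h.m.kne fun _ a => h.m.mM.2 ⟨a, h.eD ▸ (h.cR n).2.2 (c a)⟩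

theorem t1 (h : St p t S L K E N C D) (n : NN p E N R C D A) (hR : R ≤ S) : 1 ≤ t := by_contra fun c =>
  h.nR n (eq_of_card hR (h.kR n) (by rw [h.m.card, show t = 0 by omega])).ge

theorem xK (h : St p t S L K E N C D) (n : NN p E N (NS S N) C D A) (hx : x ∈ E) (hx' : x ∉ D) : x ∉ K 1 := fun c => by
  have M := h.m
  have t1 := h.t1 n NS_le
  have a : L t ≤ N := fun _ a => h.mN (M.le a) fun _ b => h.z2 (comm_of_sup (h.eS.trans M.nm)
    (sup_zpowers_eq h.q.i1 h.q.de hx hx') (fun _ d => M.c1 (h.eD.ge d) (M.le a) (by omega))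
    (comm_symm (M.kc t1 (by omega) c a)) b)
  exact h.nR n fun s hs => ⟨hs, eq_of_card a (M.cl _ 4 t1 rfl) h.cN ▸ M.nm hs⟩

theorem xp (h : St p t S L K E N C D) (hx : x ∈ E) : x ^ p = 1 := mem_bot.1 (h.el.2 x hx)

theorem eT (h : St p t S L K E N C D) (hx : x ∈ E) (hx' : x ∉ K 1) : L (t + 1) ⊔ zpowers x = N :=
  sup_zpowers_eq h.i3 h.z3 (h.q.le hx) fun c => hx' (h.m.l1 (by omega) c)

theorem step (h : St p t S L K E N C D) (hx : x ∈ E) (hx' : x ∉ K 1) (h1 : 1 ≤ i) (h2 : i + 1 ≤ t)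
    (s1 : σ ∈ Nm (L (i + 1) ⊔ zpowers x)) (s2 : Cop p σ) (s3 : σ ∈ Nm (L (i + 1))) (s4 : σ ∈ Nm (L (i + 2)))
    (s5 : σ ∈ Nm (L t)) (s6 : σ ∈ Nm D) (w1 : WtOn σ E D (-1)) (w2 : WtOn σ (L (i + 1)) (L (i + 2)) l) :
    ∃ g ∈ Nm (L i ⊔ zpowers x), Cop p g ∧ g⁻¹ * σ ∈ Cn (L (i + 1) ⊔ zpowers x) ∧ g ∈ Nm (L i) ∧
      WtOn g (L i) (L (i + 1)) (-l) := by
  have M := h.m
  have xS := h.eS hx
  have xp := h.xp hx
  have mono : ∀ {a b : ℕ}, a ≤ b → L b ⊔ zpowers x ≤ L a ⊔ zpowers x := fun a => sup_le_sup_right (M.anti a) _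
  have nP : N ≤ L (i + 1) ⊔ zpowers x := h.eT hx hx' ▸ mono (by omega)
  have pM : L (i + 1) ⊔ zpowers x ≤ K (t + 2) := sup_le (M.l1 (by omega)) (zpowers_le.2 (h.inM hx))
  have cP : L (i + 1) ⊔ zpowers x ≤ Cn D := fun _ a => h.eD ▸ (M.mM.1 (pM a)).2
  have pS := M.tS (i := i + 1) xS
  have pP := M.pg.to_le pS
  have tn : L i ⊔ zpowers x ≤ NS S (L (i + 1) ⊔ zpowers x) := fun _ a =>
    ⟨M.tS xS a, nm_elt fun _ b => mem_sup_left (M.cT xS (mono (by omega) b) a)⟩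
  have eN : L i ⊔ zpowers x = NS S (L (i + 1) ⊔ zpowers x) :=
    (eq_or_eq_of_le (M.pg.to_le NS_le) (ns_idx M.pg h.q.de h.q.le nP pS h.q.i1 h.q.idx h.eN.le
      (NS_le_norm.trans (h.nD nP pS cP))) (mono (by omega)) tn).resolve_left fun c =>
      not_le_of_prime (M.idx h1 (by omega)) ((le_inf (le_sup_left.trans c.le) (M.l1 h1)).trans
        (M.infT (by omega) xS hx' xp).le)
  have f0 : Fr (L (i + 1) ⊔ zpowers x) ≤ L (i + 2) := El.Fr_le (p := p) ⟨fun _ a _ b => M.cT xS a b, fun _ =>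
    (cl2_of_comm (pS.trans M.nm) fun _ a _ b => M.cT xS a b).pow_of_sup h.p2 rfl
      (fun _ => pow_mem_of_prime (M.le.trans M.nm) (M.idx (by omega) (by omega))) (xp ▸ one_mem _)⟩ le_rfl
  obtain ⟨g, g1, g2, g3⟩ := ext_fl h.sat (h.fn nP (lt_of_le_not_ge pS fun c => M.kne (c.trans pM)) cP) f0
    (M.anti (Nat.le_succ _)) le_sup_left (fun y a => ⟨⟨mem_Tr_of_le le_sup_left fun _ b =>
      M.cT xS (mono (by omega) b) (eN.ge a), mem_Tr_of_le (M.anti (Nat.le_succ _)) fun _ b => M.c1 b a.1 le_rfl⟩,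
      mem_Tr_of_le f0 fun _ b => comm_of_sup2 ((sup_le Fr_le ((M.anti (by omega)).trans le_sup_left)).trans
        fun _ c => norm_Fr (le_normalizer c)) (fun _ => comm_mem_left (norm_Fr a.2))
        (fun _ => bot_of_Cn (M.cZ a.1)) (M.frT (by omega) xS hx' (t + 1 - i) _ (by omega) le_rfl b)⟩) s1 s3 s4 s2
  rw [← eN] at g1
  have tr : ∀ {X : Subgroup G}, X ≤ L (i + 1) ⊔ zpowers x → σ ∈ Nm X → g ∈ Nm X := fun a b =>
    mem_of_inv_mul' b (Cn_le_Nm (centralizer_le a g3))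
  have lP : ∀ {a : ℕ}, i + 1 ≤ a → L a ≤ L (i + 1) ⊔ zpowers x := fun a => (M.anti a).trans le_sup_left
  have eL : Cm (L i ⊔ zpowers x) (L t) (L (t + 2)) = L i := le_antisymm (fun y a =>
    have b := (mem_Cm ((M.tS xS).trans M.nm)).1 a
    (M.infT h1 xS hx' xp).le ⟨b.1, (M.bla (r := t) (by omega) (by omega)).le
      (M.mk'.2 ⟨M.tS xS b.1, fun _ c => comm_symm (b.2 _ c)⟩)⟩)
    fun y a => (mem_Cm ((M.tS xS).trans M.nm)).2 ⟨mem_sup_left a, fun _ c => M.cm a c (by omega)⟩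
  have g4 : g ∈ Nm (L i) := eL ▸ norm_Cm ((M.tS xS).trans M.nm) g1 (tr (lP h2) s5) (tr (lP (by omega)) (h.eD ▸ s6))
  have g5 := tr le_sup_left s3
  obtain ⟨k, hk⟩ := exists_wt M.pl (M.anti (Nat.le_succ _)) (M.idx h1 (by omega)) g4 g5
  refine ⟨g, g1, g2, g3, g4, hk.congr (fun _ => pow_mem_of_prime (M.le.trans M.nm) (M.idx h1 (by omega))) ?_⟩
  obtain ⟨u, u1, u2⟩ := exists_of_prime (M.idx h1 (by omega))
  have := wt_dvd (Z := L (i + 1)) (W := L (i + 2)) M.pl (M.le.trans M.nm) (h.eS.trans M.nm) (tr (lP (by omega)) s4)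
    (M.anti (Nat.le_succ _)) h.q.de (fun _ a _ b => M.c1 a (h.eS b) le_rfl)
    (fun _ a _ b => M.cm a (h.eD.ge b) (by omega)) (fun _ a _ b => M.c1 a (h.eS b) le_rfl)
    (fun _ a _ b => M.c1 a (M.le b) le_rfl) (fun _ a _ b => M.c1 a (h.eS b) le_rfl) hk
    (w1.of_eq fun _ a => same_of_Cn g3 (nP (h.q.le a))) (w2.of_eq fun _ a => same_of_Cn g3 (mem_sup_left a)) u1 hx
    (M.kn h1 (by omega) xS hx' u1 u2)
  rwa [← dvd_neg, show -(k * -1 - l) = k - -l by ring] at this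

theorem tower (h : St p t S L K E N C D) (hx : x ∈ E) (hx' : x ∉ K 1) (s1 : τ ∈ Nm (L t ⊔ zpowers x)) (s2 : Cop p τ)
    (s3 : τ ∈ Nm (L t)) (s4 : τ ∈ Nm (L (t + 1))) (s6 : τ ∈ Nm D) (w1 : WtOn τ E D (-1))
    (w2 : WtOn τ (L t) (L (t + 1)) (-1)) : ∀ j i, i + j = t → 1 ≤ i → ∃ g ∈ Nm (L i ⊔ zpowers x), Cop p g ∧
      g⁻¹ * τ ∈ Cn (L t ⊔ zpowers x) ∧ g ∈ Nm (L i) ∧ g ∈ Nm (L (i + 1)) ∧ WtOn g (L i) (L (i + 1)) ((-1) ^ (j + 1))
  | 0, i, a, _ => by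
    obtain rfl : i = t := a
    exact ⟨τ, s1, s2, by rw [inv_mul_cancel]; exact one_mem _, s3, s4, by rwa [zero_add, pow_one]⟩
  | j + 1, i, a, b => by
    obtain ⟨σ, a1, a2, a3, a4, a5, a6⟩ := h.tower hx hx' s1 s2 s3 s4 s6 w1 w2 j (i + 1) (by omega) (by omega)
    have nP : N ≤ L t ⊔ zpowers x := h.eT hx hx' ▸ sup_le_sup_right (h.m.anti (by omega)) _
    obtain ⟨g, b1, b2, b3, b4, b5⟩ := h.step hx hx' b (by omega) a1 a2 a4 a5
      (mem_of_inv_mul' s3 (Cn_le_Nm (centralizer_le (le_sup_left : L t ≤ _) a3)))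
      (mem_of_inv_mul' s6 (Cn_le_Nm (centralizer_le (h.q.dn.trans nP) a3)))
      (w1.of_eq fun _ c => same_of_Cn a3 (nP (h.q.le c))) a6
    refine ⟨g, b1, b2, ?_, b4, mem_of_inv_mul' a4 (Cn_le_Nm (centralizer_le (le_sup_left : L (i + 1) ≤ _) b3)), by
      rwa [pow_succ, mul_neg_one]⟩
    have := mul_mem (centralizer_le (sup_le_sup_right (h.m.anti (show i + 1 ≤ t by omega)) _) b3) a3
    rwa [mul_assoc, mul_inv_cancel_left] at this

theorem false (h : St p t S L K E N C D) : False := by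
  have M := h.m
  obtain ⟨A, n⟩ := h.nn
  have t1 := h.t1 n NS_le
  obtain ⟨x, hx, hx0⟩ := exists_of_prime h.q.i1
  have hx' := h.xK n hx hx0
  have xS := h.eS hx
  have eA := h.eA n NS_le
  obtain ⟨cC, cA, cD⟩ := h.cR n
  have d2 := neg_two h.p2
  obtain ⟨τ, τ1⟩ := n.tor (l := -1) (m := -1) (by norm_num)
  have tC := h.cC τ1.mem
  obtain ⟨b1, -, b3, -, -⟩ := n.exists_B cC cA
  obtain ⟨b4, b5⟩ := n.abB τ1 tC cC cA (by rwa [show (-1 : ℤ) ^ 5 = -1 by norm_num])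
  have lR : L t ≤ NS S N := fun u a => ⟨M.le a, nm_elt fun _ b => h.z3 (comm_symm (M.c1 a (h.nS b) le_rfl))⟩
  have eR : L t ⊔ zpowers x = NS S N := sup_zpowers_eq (idx_of_card lR (M.cl _ 4 t1 rfl) (h.kR n)) lR
    (n.nr (h.q.le hx)) fun c => hx' (M.l1 t1 c)
  have eB : NS S N ⊓ Tr A C = L t := eq_of_card (fun y a => (M.infT t1 xS hx' (h.xp hx)).le ⟨eR.ge a.1,
    (M.bla (r := t + 1) (by omega) le_rfl).le (M.mk'.2 ⟨NS_le a.1, fun _ c => bot_of_Cn (b5 a) (b1 (eA.le c))⟩)⟩)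
    (card_up b1 b3 (eA ▸ M.cl _ 3 (by omega) rfl)) (M.cl _ 4 t1 rfl)
  have tA := n.na τ1.nN
  obtain ⟨⟨k, hk⟩, u, hu, v, hv, uv⟩ := M.exc (h.inM hx) hx'
  obtain ⟨σ, a1, a2, a3, a4, a5, a6⟩ := h.tower hx hx' (eR ▸ τ1.nR) τ1.cop
    (eB ▸ norm_inf τ1.nR (norm_Tr tA (Cn_le_Nm tC))) (eA ▸ tA) (n.nD τ1.nN) τ1.w2
    (by rwa [eB, ← eA, show (-1 : ℤ) ^ 3 = -1 by norm_num] at b4) (2 * k) 1 (by omega) le_rfl
  rw [eR] at a3
  rw [pow_succ, pow_mul, neg_one_sq, one_pow, one_mul] at a6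
  have wA : WtOn σ A D 1 := (neg_one_sq (R := ℤ) ▸ n.wA τ1).of_eq fun _ c => same_of_Cn a3 (n.ar c)
  have wE : WtOn σ E D (-1) := τ1.w2.of_eq fun _ c => same_of_Cn a3 (n.nr (h.q.le c))
  have uz : ⁅u, v⁆ ∈ L (t + 3) := M.cm hu hv (by omega)
  have w1 : Wt σ ⊥ ⁅u, v⁆ (-1 * 1) := wt_comm le_Nm_bot le_Nm_bot mem_Nm_bot (M.anti (Nat.le_succ 1)) n.da
    (fun _ a _ b => mem_bot.2 (M.one a (eA.ge b) (by omega)))
    (fun _ a _ b => mem_bot.2 (M.one a (h.eD.ge b) (by omega))) hu (eA.le hv)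
    (bot_of_Cn (M.cZ (M.le hu)) uz) (bot_of_Cn (M.cZ (M.le hv)) uz) (a6 u hu) (wA v (eA.le hv))
  obtain ⟨a, ha, ha'⟩ := exists_of_prime n.i1
  have d1 := h.q.comm (n.an ha) (h.q.le hx)
  have w2 : Wt σ ⊥ ⁅a, x⁆ (1 * -1) := wt_comm le_Nm_bot le_Nm_bot mem_Nm_bot n.da h.q.de
    (fun _ a _ b => bot_of_Cn (h.cD (h.q.le b)) a) (fun _ a _ b => comm_symm (bot_of_Cn (h.cD (n.an a)) b)) ha hx
    (bot_of_Cn (h.cD (n.an ha)) d1) (bot_of_Cn (h.cD (h.q.le hx)) d1) (wA a ha) (wE x hx)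
  have w3 : WtOn σ D ⊥ (-1) := wtOn_of_two h.q.pgD bot_le (h.el.mono le_rfl h.q.de) bot_le
    (h.eD ▸ M.anti (Nat.le_succ (t + 2))) (M.bot ▸ M.idx (r := t + 3) (by omega) le_rfl)
    (h.eD ▸ M.idx (r := t + 2) (by omega) (by omega)) uz uv d1
    (M.kn (r := t + 1) (by omega) le_rfl xS hx' (eA.ge ha) (h.eD ▸ ha')) mem_Nm_bot
    (by rwa [mul_one] at w1) (by rwa [one_mul] at w2)
  have w4 : WtOn σ C ⊥ 1 := (Cn.wt tC).of_eq fun _ c => same_of_Cn a3 (n.nr (h.q.cn c))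
  exact not_le_of_prime (A := ⊥) (B := C) (p := p) (by rw [relIndex_bot_left, h.kC, pow_one]) fun c hc =>
    Wt.mem h.q.pgC hc (w4 c hc) (w3 c (h.q.cd hc)) d2

end St

theorem no_cube (hp : 5 ≤ p) (m : MX p t S L K) (hF : Sat (FT S) p) (hE : (FT S).IsEssential p E) (fr : Fr E = ⊥)
    (hc : Nat.card E = p ^ 3) : False := by
  have p2 : p ≠ 2 := by omega
  have hr : ∀ {E : Subgroup G}, Nat.card E = p ^ 3 → (Fr E).relIndex E ≤ p ^ 3 := fun c =>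
    c ▸ (relIndex_le_of_le_left bot_le relIndex_ne_zero').trans (relIndex_bot_left _).le
  have dich := ess_dich hF p2 hE (hr hc)
  have idx : E.relIndex (NS S E) = p := dich.elim (·.idx) fun ⟨_, _, q⟩ => q.idx
  have eN := le_NS (hF.ess_lt hE).le
  have cN := card_up eN idx hc
  have lt : NS S E < S := lt_of_le_of_ne NS_le fun c => by
    rw [c, m.card] at cN
    have := Nat.pow_right_injective (Fact.out : p.Prime).two_le cN
    omega
  obtain ⟨g, g1, g2⟩ := SetLike.exists_of_lt (hF.lt_NS lt)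
  obtain ⟨c1, c2⟩ := ess_cj' hF hE g1.2
  have pN := hF.pgroup (NS_le (S := S) (P := E))
  have rk : Rk p (NS S E) := fun A B a b c => by
    have pp : p.Prime := Fact.out
    have e1 := card_eq_mul' a
    rw [cN, card_eq_mul' b, pow_succ] at e1
    have e2 : 0 < Nat.card B := Nat.card_pos
    refine Nat.le_of_mul_le_mul_right (le_of_le_of_eq ?_ e1.symm) pp.pos
    rcases a.lt_or_eq with d | rfl
    · exact Nat.mul_le_mul (Nat.le_mul_of_pos_left _ e2) (le_idx pN d)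
    · rw [relIndex_self, mul_one, mul_comm]
      refine Nat.mul_le_mul_right _ (relIndex_bot_left B ▸ le_idx (pN.to_le b) (bot_lt_iff_ne_bot.2 fun d => ?_))
      subst d
      exact not_le_of_prime idx fun y e => hF.ess_centric hE ⟨e.1, centralizer_le eN (le_Cn_of_bot c.1 e)⟩
  obtain ⟨C, D, q⟩ := q_of_conj p2 rk (fun c => g2 ⟨g1.1, img_cj_eq_self.1 c.symm⟩) dich
    (c2 ▸ ess_dich hF p2 c1 (hr ((card_img_cj g E).trans hc)))
  exact St.false ⟨hp, m, hF, hE, rfl, q, fr, hc⟩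

end CF.Mxc
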