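import Cfsg.Agent.FusC.K
import Cfsg.Agent.Fus.Pearl

/-! Blackburn's theorem on the two-step centralizers of a `p`-group of maximal class. -/

set_option autoImplicit false
set_option linter.unusedSectionVars false
set_option linter.unusedVariables false

namespace CF.Mxc

open Subgroup CF.Fgs2
open scoped commutatorElement

theorem jac0 {Q : Type*} [Group Q] {a b c : Q} (h1 : Commute ⁅c, a⁆ ⁅c, b⁆) (h2 : Commute ⁅c, b⁆ ⁅⁅c, a⁆, b⁆)
    (h3 : Commute ⁅c, b⁆ ⁅a, b⁆) (h4 : Commute ⁅c, a⁆ ⁅a, b⁆) (h5 : Commute ⁅c, a⁆ ⁅a, ⁅c, b⁆⁆)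
    (h6 : Commute ⁅a, b⁆ ⁅⁅c, a⁆, b⁆) : ⁅c, ⁅a, b⁆⁆ = ⁅a, ⁅c, b⁆⁆ * ⁅⁅c, a⁆, b⁆ := by
  have e : ⁅c, ⁅a, b⁆⁆ = ⁅c, a⁆ * (⁅a, ⁅c, b⁆⁆ * (⁅c, b⁆ * ⁅a, b⁆ * ⁅c, b⁆⁻¹)) * ⁅c, a⁆⁻¹ *
      (⁅⁅c, a⁆, ⁅c, b⁆⁆ * (⁅c, b⁆ * ⁅⁅c, a⁆, b⁆ * ⁅c, b⁆⁻¹)) * ⁅a, b⁆⁻¹ := by
    simp only [commutatorElement_def]; group
  rw [e, h3.mul_inv_cancel, h2.mul_inv_cancel, (h5.mul_right h4).mul_inv_cancel,
    commutatorElement_eq_one_iff_commute.2 h1, one_mul, mul_assoc _ ⁅a, b⁆, mul_assoc, h6.mul_inv_cancel]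

variable {G : Type*} [Group G] {p n i j k m : ℕ} {a b c s x y : G}

/-- the quotient by a term of the lower central series -/
abbrev pi (G : Type*) [Group G] (m : ℕ) : G →* G ⧸ LC G m := QuotientGroup.mk' (LC G m)

/-- the two-step centralizers -/
abbrev KK (G : Type*) [Group G] (r : ℕ) : Subgroup G := twoStep (LC G r) (LC G (r + 2))

theorem pi_one : pi G m x = 1 ↔ x ∈ LC G m := QuotientGroup.eq_one_iff x

theorem cmm (ha : a ∈ LC G i) (hb : b ∈ LC G j) (h : m ≤ i + j + 1) : ⁅a, b⁆ ∈ LC G m :=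
  LC_anti h (comm_mem_LC ha hb)

theorem pi_comm (ha : a ∈ LC G i) (hb : b ∈ LC G j) (h : m ≤ i + j + 1) : Commute (pi G m a) (pi G m b) := by
  rw [← commutatorElement_eq_one_iff_commute, ← map_commutatorElement, pi_one]
  exact cmm ha hb h

theorem jac (ha : a ∈ LC G i) (hb : b ∈ LC G j) (hc : c ∈ LC G k) (h : m ≤ i + j + k + 3) :
    pi G m ⁅c, ⁅a, b⁆⁆ = pi G m ⁅a, ⁅c, b⁆⁆ * pi G m ⁅⁅c, a⁆, b⁆ := by
  have u := comm_mem_LC hc ha
  have v := comm_mem_LC hc hb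
  have w := comm_mem_LC ha hb
  have h1 := pi_comm (m := m) u v (by omega)
  have h2 := pi_comm (m := m) v (comm_mem_LC u hb) (by omega)
  have h3 := pi_comm (m := m) v w (by omega)
  have h4 := pi_comm (m := m) u w (by omega)
  have h5 := pi_comm (m := m) u (comm_mem_LC ha v) (by omega)
  have h6 := pi_comm (m := m) w (comm_mem_LC u hb) (by omega)
  simp only [map_commutatorElement] at *
  exact jac0 h1 h2 h3 h4 h5 h6

theorem sym {N : Subgroup G} (h : ⁅a, b⁆ ∈ N) : ⁅b, a⁆ ∈ N := CF.FusC.comm_symm h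

theorem mem0 (x : G) : x ∈ LC G 0 := mem_top x

theorem l1K : LC G 1 ≤ KK G k := fun _ hs _ hy => comm_mem_LC hy hs

/-- the commutators of the chain -/
abbrev ff (s y : G) (i j : ℕ) : G := ⁅engel s y i, engel s y j⁆

theorem ff_mem : ff s y i j ∈ LC G (i + j + 1) := comm_mem_LC (engel_mem s y i) (engel_mem s y j)

theorem jacf (h : m ≤ i + j + 3) :
    pi G m ⁅s, ff s y i j⁆ = pi G m (ff s y i (j + 1)) * pi G m (ff s y (i + 1) j) := by
  simp only [ff, engel_succ]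
  exact jac (engel_mem s y i) (engel_mem s y j) (mem0 s) h

theorem alt (H : ∀ i j, i + j = m → ⁅s, ff s y i j⁆ ∈ LC G (m + 3)) :
    ∀ i j, i + j = m + 1 → (ff s y i j ∈ LC G (m + 3) ↔ ff s y 0 (m + 1) ∈ LC G (m + 3)) := by
  intro i
  induction i with
  | zero => intro j h; rw [show j = m + 1 by omega]
  | succ i ih =>
    intro j h
    have e := jacf (s := s) (y := y) (m := m + 3) (i := i) (j := j) (by omega)
    rw [pi_one.2 (H i j (by omega)), ← map_mul, eq_comm, pi_one] at e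
    rw [← ih (j + 1) (by omega)]
    exact ⟨fun c => (mul_mem_cancel_right c).1 e, fun c => (mul_mem_cancel_left c).1 e⟩

theorem ff0 (hy : y ∈ KK G k) : ff s y 0 k ∈ LC G (k + 2) := sym (hy _ (engel_mem s y k))

theorem pos : ∀ m, (∀ r, 1 ≤ r → r ≤ m → y ∈ KK G r) → ∀ i j, i + j = m → ff s y i j ∈ LC G (m + 2)
  | 0, _, i, j, h => by
    rw [show i = 0 by omega, show j = 0 by omega, ff, commutatorElement_self]; exact one_mem _
  | m + 1, hy, i, j, h =>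
    (alt (fun i j h => cmm (mem0 s) (pos m (fun r a b => hy r a (by omega)) i j h) (by omega)) i j h).2
      (ff0 (hy _ (by omega) le_rfl))

theorem odd (H : ∀ i j, i + j = m → ⁅s, ff s y i j⁆ ∈ LC G (m + 3)) (h : ff s y 0 (m + 1) ∉ LC G (m + 3)) :
    Even m := by
  by_contra c
  obtain ⟨k, hk⟩ := Nat.not_even_iff_odd.1 c
  refine h ((alt H (k + 1) (k + 1) (by omega)).1 ?_)
  rw [ff, commutatorElement_self]; exact one_mem _

theorem rec2 (H : ∀ i j, i + j = m → ff s y i j ∈ LC G (m + 2)) (h0 : ff s y 0 (m + 2) ∈ LC G (m + 4)) :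
    ∀ i j, i + j = m + 1 → pi G (m + 4) ⁅s, ff s y i j⁆ = pi G (m + 4) ⁅s, ff s y 0 (m + 1)⁆ ^ ((-1 : ℤ) ^ i) ∧
      pi G (m + 4) (ff s y i (j + 1)) = pi G (m + 4) ⁅s, ff s y 0 (m + 1)⁆ ^ (-((-1 : ℤ) ^ i * i)) := by
  intro i
  induction i with
  | zero =>
    intro j h
    rw [show j = m + 1 by omega, pi_one.2 h0, pow_zero, Nat.cast_zero, mul_zero, neg_zero]
    exact ⟨(zpow_one _).symm, (zpow_zero _).symm⟩
  | succ i ih =>
    intro j h
    obtain ⟨a1, a2⟩ := ih (j + 1) (by omega)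
    have e := jacf (s := s) (y := y) (m := m + 3) (i := i) (j := j) (by omega)
    rw [pi_one.2 (cmm (mem0 s) (H i j (by omega)) (by omega)), ← map_mul, eq_comm, pi_one] at e
    have e1 := pi_one.2 (cmm (m := m + 4) (mem0 s) e (by omega))
    have e2 := pi_comm (m := m + 4) (mem0 (ff s y i (j + 1)))
      (comm_mem_LC (mem0 s) (ff_mem (s := s) (y := y) (i := i + 1) (j := j))) (by omega)
    have e3 : ∀ u v : G, ⁅s, u * v⁆ = ⁅s, u⁆ * (u * ⁅s, v⁆ * u⁻¹) := fun u v => by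
      simp only [commutatorElement_def]; group
    rw [e3, map_mul, map_mul, map_mul, map_inv, e2.mul_inv_cancel, a1] at e1
    have e4 := jacf (s := s) (y := y) (m := m + 4) (i := i) (j := j + 1) (by omega)
    rw [a1, a2] at e4
    generalize pi G (m + 4) ⁅s, ff s y 0 (m + 1)⁆ = A at *
    constructor
    · rw [eq_inv_of_mul_eq_one_right e1, ← zpow_neg, pow_succ, mul_neg_one]
    · rw [eq_inv_mul_of_mul_eq e4.symm, ← zpow_neg, ← zpow_add]
      congr 1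
      push_cast
      ring

variable [Finite G] [hp : Fact p.Prime]

theorem nmem (h : MaxC p n G) (h1 : ⁅s, y⁆ ∉ LC G 2) :
    ∀ k, (∀ r, 1 ≤ r → r ≤ k → s ∉ KK G r) → engel s y (k + 1) ∉ LC G (k + 2)
  | 0, _ => h1
  | k + 1, hs => fun c => hs (k + 1) (by omega) le_rfl (h.mem_twoStep_of (by omega) (engel_mem s y _)
      (nmem h h1 k fun r a b => hs r a (by omega)) (sym (engel_succ s y _ ▸ c)))

theorem gen2 (h : MaxC p n G) {T : Subgroup G} (hT : LC G 1 ≤ T) (hy : y ∈ T) (hy' : y ∉ LC G 1) (hs : s ∉ T) :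
    ⁅s, y⁆ ∉ LC G 2 := fun c => by
  have h3 := h.three
  have a1 : LC G 1 < zpowers y ⊔ LC G 1 :=
    lt_of_le_not_ge le_sup_right fun d => hy' (d (mem_sup_left (mem_zpowers y)))
  have b : ∀ {u : G}, ⁅y, u⁆ ∈ LC G 2 → u ∈ twoStep (zpowers y) (LC G 2) := fun {u} d =>
    mem_twoStep.2 fun z hz => mem_leftCent.1 (zpowers_le.2 (mem_leftCent.2 d) hz)
  have a0 : zpowers y ⊔ LC G 1 ≤ T := sup_le (zpowers_le.2 hy) hT
  have a3 : y ∈ twoStep (zpowers y) (LC G 2) := b (by rw [commutatorElement_self]; exact one_mem _)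
  have a4 : LC G 1 ≤ twoStep (zpowers y) (LC G 2) := fun u hu => b (cmm (mem0 y) hu le_rfl)
  have a2 : zpowers y ⊔ LC G 1 < twoStep (zpowers y) (LC G 2) := lt_of_le_not_ge
    (sup_le (zpowers_le.2 a3) a4) fun d => hs (a0 (d (b (sym c))))
  have d1 := mul_index_dvd_of_lt h.isP a1
  have d2 := mul_index_dvd_of_lt h.isP a2
  have d3 := mul_index_dvd_of_lt h.isP (lt_top_iff_ne_top.2 (h.leftCent_ne_top hy'))
  rw [h.index le_rfl (by omega)] at d1
  rw [index_top, mul_one] at d3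
  have := ((Nat.mul_dvd_mul_left p ((Nat.mul_dvd_mul_left p d3).trans d2)).trans d1)
  rw [show p * (p * p) = p ^ 3 by ring, Nat.pow_dvd_pow_iff_le_right hp.out.one_lt] at this
  omega

theorem kne (h : MaxC p n G) (hr : k + 3 ≤ n) : KK G k ≠ ⊤ := h.twoStep_ne_top (h.ne_bot_iff.2 (by omega))

theorem kidx (h : MaxC p n G) (h1 : 1 ≤ k) (hr : k + 3 ≤ n) : (KK G k).relIndex ⊤ = p := by
  obtain ⟨x, a, b⟩ := CF.Fus.exists_of_prime (h.relIndex h1 (by omega))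
  refine CF.Fus.relIndex_eq_prime (h.isP.to_subgroup ⊤) (fun c => kne h hr (top_le_iff.1 c)) ?_
  exact (CF.FusC.idx_le_of_Cm1 (P := ⊤) (B := LC G (k + 2)) (A := LC G (k + 1)) (v := x) le_normalizer_of_normal
    (fun s _ => sym (comm_mem_LC_succ a s)) fun s _ c => h.mem_twoStep_of h1 a b (sym c)).trans
    (h.relIndex (r := k + 1) (by omega) (by omega)).le

theorem keq (h : MaxC p n G) (h1 : 1 ≤ i) (hi : i + 3 ≤ n) (hj : j + 3 ≤ n) (e : KK G i ≤ KK G j) :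
    KK G j = KK G i :=
  (CF.Fus.eq_or_eq_of_prime (kidx h h1 hi) e le_top).resolve_right (kne h hj)

theorem kper (h : MaxC p n G) (hi : 1 ≤ i) (hn : i + p + 2 ≤ n) : KK G (i + p - 1) ≤ KK G i := by
  have hp2 := hp.out.two_le
  obtain ⟨M, -, -, -, -, hM⟩ := h.exists_fund (by omega)
  obtain ⟨q, hq⟩ : ∃ q, p = q + 2 := ⟨p - 2, by omega⟩
  intro s hs x hx
  have b0 := CF.Fus.comm_LC_self h hi
  have b1 : ∀ g ∈ ⁅LC G i, LC G i⁆, g ^ p ∈ LC G (i + 1 + p) := fun g hg =>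
    LC_anti (by omega) (h.pow_mem_LC (by omega) g (b0 hg))
  have b2 : (LC G i).lowerCentralSeries (p - 1) ≤ LC G (i + 1 + p) := by
    rw [show p - 1 = q + 1 by omega]
    exact (lcs_le_LC le_rfl b0 q).trans (LC_anti (by nlinarith))
  have hy : ⁅x, s⁆ ∈ LC G (i + 1) := comm_mem_LC_succ hx s
  have h1 := pow_comm_congr hp.out b1 b2 (inv_mem hx) (s := s) (by rw [inv_inv]; exact LC_anti (by omega) hy)
  have h2 := hs _ (h.pow_mem_LC hi x hx)
  rw [show i + p - 1 + 2 = i + 1 + p by omega] at h2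
  rw [inv_inv, inv_pow, inv_inv, mul_mem_cancel_right h2, inv_mem_iff] at h1
  by_contra h3
  exact hM (i + 1) (by omega) (by omega) _ hy h3 h1

theorem ff0' (h : MaxC p n G) (h1 : ⁅s, y⁆ ∉ LC G 2) (hs : ∀ r, 1 ≤ r → r ≤ m → s ∉ KK G r)
    (hy : y ∉ KK G (m + 1)) : ff s y 0 (m + 1) ∉ LC G (m + 3) := fun c =>
  hy (h.mem_twoStep_of (by omega) (engel_mem s y _) (nmem h h1 m hs) (sym c))

theorem bla_step (h : MaxC p n G) (h1 : 1 ≤ m) (hn : m + 5 ≤ n) (ih : ∀ r, 1 ≤ r → r ≤ m → KK G r = KK G 1) :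
    KK G (m + 1) = KK G 1 := by
  by_cases c : p ≤ m + 1
  · have hp2 := hp.out.two_le
    have a := kper h (i := m + 2 - p) (by omega) (by omega)
    rw [show m + 2 - p + p - 1 = m + 1 by omega] at a
    exact (keq h (by omega) (by omega) (by omega) (a.trans (ih _ (by omega) (by omega)).le)).symm
  refine keq h le_rfl (by omega) (by omega) fun y hy => by_contra fun hy' => ?_
  obtain ⟨s, s1, s2⟩ : ∃ s, s ∉ KK G 1 ∧ s ∉ KK G (m + 2) := by
    by_contra d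
    push Not at d
    exact kne h (k := 1) (by omega) (eq_top_of_union (fun x => or_iff_not_imp_left.2 (d x)) (kne h (by omega)))
  have g2 := gen2 h l1K hy (fun d => hy' (l1K d)) s1
  have yK : ∀ r, 1 ≤ r → r ≤ m → y ∈ KK G r := fun r a b => (ih r a b).ge hy
  have P := pos (s := s) m yK
  have H : ∀ i j, i + j = m → ⁅s, ff s y i j⁆ ∈ LC G (m + 3) := fun i j e => cmm (mem0 s) (P i j e) (by omega)
  have f0 := ff0' h g2 (fun r a b d => s1 ((ih r a b).le d)) hy'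
  obtain ⟨k, hk⟩ := odd H f0
  have f1 : ff s y 1 m ∉ LC G (m + 3) := fun d => f0 ((alt H 1 m (by omega)).1 d)
  have f2 := jac (m := m + 4) (engel_mem s y 1) (engel_mem s y m) (mem0 y) (by omega)
  rw [pi_one.2 (cmm (engel_mem s y 1) (sym (yK m h1 le_rfl _ (engel_mem s y m))) (by omega)),
    pi_one.2 (cmm (sym (hy _ (engel_mem s y 1))) (engel_mem s y m) (by omega)), one_mul, pi_one] at f2
  have f3 : ff s y 1 m ∈ LC G (m + 2) := LC_anti (by omega) ff_mem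
  have f4 := (rec2 P (ff0 (h.mem_twoStep_of (r := m + 2) (by omega) f3 f1 (sym f2))) (k + 1) k (by omega)).2
  rw [ff, commutatorElement_self, map_one, ← map_zpow, eq_comm, pi_one] at f4
  have f5 := CF.FusC.mem_of_zpow_mem' (h.isP.to_subgroup ⊤) (mem_top _) f4 fun d => by
    have := Int.natCast_dvd_natCast.1 ((IsUnit.dvd_mul_left ((isUnit_neg_one).pow (k + 1))).1 ((dvd_neg).1 d))
    have := Nat.le_of_dvd (by omega) this
    omega
  exact s2 (h.mem_twoStep_of (r := m + 2) (by omega) (LC_anti (by omega) ff_mem) f0 (sym f5))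

theorem bla (h : MaxC p n G) : ∀ m, m + 4 ≤ n → ∀ r, 1 ≤ r → r ≤ m → KK G r = KK G 1
  | 0, _, r, a, b => by omega
  | m + 1, hm, r, a, b => by
    have ih := bla h m (by omega)
    rcases Nat.lt_or_ge r (m + 1) with c | c
    · exact ih r a (by omega)
    obtain rfl : r = m + 1 := by omega
    rcases Nat.eq_zero_or_pos m with rfl | d
    · rfl
    · exact bla_step h d (by omega) ih

theorem exc (h : MaxC p (m + 5) G) (hx : x ∈ KK G (m + 2)) (hx' : x ∉ KK G 1) :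
    Odd m ∧ ∃ u ∈ LC G 1, ∃ v ∈ LC G (m + 1), ⁅u, v⁆ ≠ 1 := by
  obtain ⟨y, hy⟩ : ∃ y, y ∉ KK G (m + 2) := by
    by_contra d
    push Not at d
    exact kne h (k := m + 2) le_rfl (eq_top_iff.2 fun y _ => d y)
  have g2 : ⁅x, y⁆ ∉ LC G 2 := fun d => gen2 h l1K hx (fun d => hx' (l1K d)) hy (sym d)
  have H : ∀ i j, i + j = m + 1 → ⁅x, ff x y i j⁆ ∈ LC G (m + 1 + 3) := fun i j e =>
    sym (hx _ (LC_anti (by omega) ff_mem))
  have f0 := ff0' h g2 (fun r a b d => hx' ((bla h (m + 1) le_rfl r a b).le d)) hy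
  exact ⟨Nat.not_even_iff_odd.1 (Nat.even_add_one.1 (odd H f0)), _, engel_mem x y 1, _, engel_mem x y (m + 1),
    fun d => f0 ((alt H 1 (m + 1) (by omega)).1 (by rw [ff, d]; exact one_mem _))⟩

end CF.Mxc
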