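import Cfsg.Agent.Mxc.A

/-! Groups of maximal class inside an ambient group; normalizer towers above an essential subgroup. -/

set_option autoImplicit false
set_option linter.unusedSectionVars false
set_option linter.unusedVariables false

namespace CF.Mxc

open Cfsg Subgroup CF.Fus CF.FusC
open CF.Fgs2 (LC MaxC twoStep mem_twoStep)
open scoped commutatorElement

universe u

variable {G : Type u} [Group G] {p t i j k r : ℕ} {A B C D E N P R S T U X Y : Subgroup G} {L K : ℕ → Subgroup G}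
  {a b c d e g h s u v w x y z σ τ : G} {l m : ℤ}

/-- `S` has maximal class and order `p ^ (t + 5)`, with lower central series `L` and two-step centralizers `K` -/
structure MX (p t : ℕ) (S : Subgroup G) (L K : ℕ → Subgroup G) : Prop where
  pg : IsPGroup p S
  card : Nat.card S = p ^ (t + 5)
  l0 : L 0 = S
  cm : ∀ {i j k : ℕ} {a b : G}, a ∈ L i → b ∈ L j → k ≤ i + j + 1 → ⁅a, b⁆ ∈ L k
  anti : ∀ {i j : ℕ}, i ≤ j → L j ≤ L i
  cl : ∀ r k, 1 ≤ r → r + k = t + 4 → Nat.card (L r) = p ^ k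
  mk' : ∀ {r : ℕ} {s : G}, s ∈ K r ↔ s ∈ S ∧ ∀ y ∈ L r, ⁅y, s⁆ ∈ L (r + 2)
  kof : ∀ {r : ℕ} {x s : G}, 1 ≤ r → x ∈ L r → x ∉ L (r + 1) → s ∈ S → ⁅x, s⁆ ∈ L (r + 2) → s ∈ K r
  kne : ¬ S ≤ K (t + 2)
  gen2 : ∀ {y s : G}, y ∈ K (t + 2) → y ∉ L 1 → s ∈ S → s ∉ K (t + 2) → ⁅s, y⁆ ∉ L 2
  bla : ∀ {r : ℕ}, 1 ≤ r → r ≤ t + 1 → K r = K 1
  keq : K (t + 2) ≤ K 1 → K 1 ≤ K (t + 2)
  exc : ∀ {x : G}, x ∈ K (t + 2) → x ∉ K 1 → Odd t ∧ ∃ u ∈ L 1, ∃ v ∈ L (t + 1), ⁅u, v⁆ ≠ 1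

variable [Fact p.Prime] [Finite G]

theorem exists_mx (h : MaxC p (t + 5) S) : ∃ L K, MX p t S L K := by
  have inj := S.subtype_injective
  have m : ∀ {H : Subgroup S} {x : S}, (x : G) ∈ H.map S.subtype ↔ x ∈ H := mem_map_iff_mem inj
  have c : ∀ x y : S, ⁅(x : G), (y : G)⁆ = ((⁅x, y⁆ : S) : G) := fun x y => (map_commutatorElement S.subtype x y).symm
  refine ⟨fun i => (LC S i).map S.subtype, fun i => (KK S i).map S.subtype, h.isP, h.card, ?_, ?_,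
    fun a => map_mono (CF.Fgs2.LC_anti a), fun r k a b => ?_, ?_, ?_, fun a => ?_, ?_,
    fun a b => congrArg _ (bla h _ le_rfl _ a b), fun a => map_mono (keq h (by omega) le_rfl (by omega)
      ((map_le_map_iff_of_injective inj).1 a)).le, ?_⟩
  · exact (map_LC S 0)
  · rintro i j k _ _ ⟨a, ha, rfl⟩ ⟨b, hb, rfl⟩ e
    exact ⟨_, cmm ha hb e, map_commutatorElement _ _ _⟩
  · rw [card_map_of_injective inj, h.card_LC a (by omega)]
    congr 1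
    omega
  · intro r s
    constructor
    · rintro ⟨s, hs, rfl⟩
      refine ⟨s.2, ?_⟩
      rintro _ ⟨y, hy, rfl⟩
      exact ⟨_, hs y hy, map_commutatorElement _ _ _⟩
    · rintro ⟨hs, e⟩
      exact ⟨⟨s, hs⟩, fun y hy => m.1 (c y ⟨s, hs⟩ ▸ e y (m.2 hy)), rfl⟩
  · rintro r _ s a ⟨x, hx, rfl⟩ hx' hs e
    exact ⟨⟨s, hs⟩, h.mem_twoStep_of a hx (fun d => hx' (m.2 d)) (m.1 (c x ⟨s, hs⟩ ▸ e)), rfl⟩
  · exact kne h (k := t + 2) le_rfl (eq_top_iff.2 fun x _ => m.1 (a x.2))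
  · rintro _ s ⟨y, hy, rfl⟩ hy' hs hs' e
    exact gen2 h l1K hy (fun d => hy' (m.2 d)) (s := ⟨s, hs⟩) (fun d => hs' (m.2 d)) (m.1 (c ⟨s, hs⟩ y ▸ e))
  · rintro _ ⟨x, hx, rfl⟩ hx'
    obtain ⟨a, u, hu, v, hv, b⟩ := exc h hx fun d => hx' (m.2 d)
    exact ⟨a, u, m.2 hu, v, m.2 hv, fun d => b (inj (by rw [map_commutatorElement, map_one]; exact d))⟩

namespace MX

theorem le (h : MX p t S L K) : L i ≤ S := h.l0 ▸ h.anti (Nat.zero_le i)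

theorem c1 (h : MX p t S L K) (ha : a ∈ L i) (hs : s ∈ S) (e : k ≤ i + 1) : ⁅a, s⁆ ∈ L k :=
  h.cm ha (h.l0.ge hs) e

theorem nm (h : MX p t S L K) : S ≤ Nm (L i) := norm_of_comm h.le fun _ a _ b => h.c1 a b (by omega)

theorem pl (h : MX p t S L K) : IsPGroup p (L i) := h.pg.to_le h.le

theorem bot (h : MX p t S L K) : L (t + 4) = ⊥ := card_eq_one.1 ((h.cl _ 0 (by omega) rfl).trans (pow_zero p))

theorem one (h : MX p t S L K) (ha : a ∈ L i) (hb : b ∈ L j) (e : t + 3 ≤ i + j) : ⁅a, b⁆ = 1 :=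
  mem_bot.1 (h.bot ▸ h.cm ha hb (by omega))

theorem idx (h : MX p t S L K) (h1 : 1 ≤ r) (h2 : r ≤ t + 3) : (L (r + 1)).relIndex (L r) = p := by
  have := card_eq_mul' (h.anti (Nat.le_succ r))
  rw [h.cl r (t + 3 - r + 1) h1 (by omega), h.cl (r + 1) (t + 3 - r) (by omega) (by omega), pow_succ] at this
  exact (Nat.eq_of_mul_eq_mul_left (pow_pos (Fact.out : p.Prime).pos _) this).symm

theorem l1 (h : MX p t S L K) (h1 : 1 ≤ i) : L i ≤ K r := fun _ a =>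
  h.mk'.2 ⟨h.le a, fun _ b => h.cm b a (by omega)⟩

theorem kS (h : MX p t S L K) : K r ≤ S := fun _ a => (h.mk'.1 a).1

theorem kc (h : MX p t S L K) (h1 : 1 ≤ r) (h2 : r ≤ t + 1) (hs : s ∈ K 1) (hy : y ∈ L r) : ⁅y, s⁆ ∈ L (r + 2) :=
  (h.mk'.1 ((h.bla h1 h2).ge hs)).2 y hy

theorem kn (h : MX p t S L K) (h1 : 1 ≤ r) (h2 : r ≤ t + 1) (hs : s ∈ S) (hs' : s ∉ K 1) (hy : y ∈ L r)
    (hy' : y ∉ L (r + 1)) : ⁅y, s⁆ ∉ L (r + 2) := fun c => hs' ((h.bla h1 h2).le (h.kof h1 hy hy' hs c))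

theorem mM (h : MX p t S L K) : s ∈ K (t + 2) ↔ s ∈ S ∧ s ∈ Cn (L (t + 2)) := by
  rw [h.mk', mem_Cn_comm, h.bot]
  simp only [mem_bot]

theorem cZ (h : MX p t S L K) : S ≤ Cn (L (t + 3)) := fun _ a =>
  mem_Cn_comm.2 fun _ b => h.one b (h.l0.ge a) le_rfl

theorem lev (h : MX p t S L K) (h1 : d ∈ L i) : ∀ j, d ∉ L j → ∃ r, i ≤ r ∧ r < j ∧ d ∈ L r ∧ d ∉ L (r + 1)
  | 0, c => (c (h.anti (Nat.zero_le i) h1)).elim
  | j + 1, c => by
    by_cases e : d ∈ L j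
    · exact ⟨j, by_contra fun f => c (h.anti (by omega) h1), by omega, e, c⟩
    · obtain ⟨r, a1, a2, a3⟩ := h.lev h1 j e
      exact ⟨r, a1, by omega, a3⟩

theorem iT (h : MX p t S L K) (h1 : 1 ≤ i) (hx : x ∈ S) (hx' : x ∉ K r) (hp : x ^ p = 1) :
    (L i).relIndex (L i ⊔ zpowers x) = p :=
  relIndex_sup_zpowers (h.nm hx) (hp ▸ one_mem _) fun c => hx' (h.l1 h1 c)

theorem infT (h : MX p t S L K) (h1 : 1 ≤ i) (hx : x ∈ S) (hx' : x ∉ K r) (hp : x ^ p = 1) :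
    (L i ⊔ zpowers x) ⊓ K r = L i :=
  (eq_or_eq_of_prime (h.iT h1 hx hx' hp) (le_inf le_sup_left (h.l1 h1)) inf_le_left).resolve_right fun c =>
    hx' (c.ge (mem_sup_right (mem_zpowers x))).2

theorem tS (h : MX p t S L K) (hx : x ∈ S) : L i ⊔ zpowers x ≤ S := sup_le h.le (zpowers_le.2 hx)

theorem cT (h : MX p t S L K) (hx : x ∈ S) (hu : u ∈ L i ⊔ zpowers x) (hv : v ∈ L i ⊔ zpowers x) :
    ⁅u, v⁆ ∈ L (i + 1) :=
  comm_of_cyc ((h.tS hx).trans h.nm) rfl (fun _ a _ b => h.c1 a (h.tS hx b) le_rfl) hu hv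

theorem frT (h : MX p t S L K) (h1 : 1 ≤ i) (hx : x ∈ S) (hx' : x ∉ K 1) :
    ∀ j r, r + j = t + 3 → i + 1 ≤ r → L r ≤ Fr (L i ⊔ zpowers x) ⊔ L (t + 3)
  | 0, r, a, _ => by rw [show r = t + 3 by omega]; exact le_sup_right
  | j + 1, r, a, b => by
    obtain ⟨r, rfl⟩ : ∃ k, r = k + 1 := ⟨r - 1, by omega⟩
    obtain ⟨u, u1, u2⟩ := exists_of_prime (h.idx (r := r) (by omega) (by omega))
    rw [← sup_zpowers_eq (h.idx (r := r + 1) (by omega) (by omega)) (h.anti (Nat.le_succ _)) (h.c1 u1 hx le_rfl)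
      (h.kn (by omega) (by omega) hx hx' u1 u2)]
    exact sup_le (h.frT h1 hx hx' j _ (by omega) (by omega)) (zpowers_le.2 (mem_sup_left
      ((el_Fr (h.pg.to_le (h.tS hx))).1 _ (mem_sup_left (h.anti (by omega) u1)) _ (mem_sup_right (mem_zpowers x)))))

end MX

theorem ns_idx (hS : IsPGroup p S) (h1 : D ≤ E) (h2 : E ≤ N) (h3 : N ≤ T) (h4 : T ≤ S) (i1 : D.relIndex E = p)
    (i2 : E.relIndex N = p) (eN : NS S E ≤ N) (hD : NS S T ≤ Nm D) : T.relIndex (NS S T) ≤ p := by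
  have pp : p.Prime := Fact.out
  have tu := le_NS h4
  have un : NS S T ≤ Nm T := NS_le_norm
  have us : NS S T ≤ S := NS_le
  generalize NS S T = U at *
  have pT := hS.to_le h4
  obtain ⟨x, x1, x2⟩ := exists_of_prime i1
  obtain ⟨A, ⟨a1, a2, a3⟩, hA⟩ := exists_maximal_of_wellFoundedGT (fun A : Subgroup G => D ≤ A ∧ A < T ∧ U ≤ Nm A)
    ⟨D, le_rfl, lt_of_lt_of_le (lt_of_prime h1 i1) (h2.trans h3), hD⟩
  obtain ⟨X, b1, b2, b3, b4⟩ := exists_line (hS.to_le us) pT un a3 (tu.trans a3) a2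
  have b5 : X = T := by_contra fun c => not_le_of_prime b3
    (hA ⟨a1.trans b1, lt_of_le_of_ne b2 c, fun _ a => Tr.n1 (b4 (mem_sup_left a))⟩ b1)
  subst b5
  have c1 := idx_le_of_Cm1 (P := U) (B := D) (A := A) (v := x) (K := N) hD
    (fun _ a => Tr.comm' (b4 (mem_sup_left a)) (h3 (h2 x1))) fun r hr c => eN ⟨us hr, (mem_Tr_of_le h1 fun y =>
      comm_of_sup (h2.trans (h3.trans (tu.trans hD))) (sup_zpowers_eq i1 h1 x1 x2)
        (fun _ => comm_mem_left (hD hr)) (comm_symm c)).1⟩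
  have c2 := idx_mul a1 a2.le
  rw [idx_mul h1 (h2.trans h3), idx_mul h2 h3, i1, i2, b3, mul_comm] at c2
  rw [idx_mul h3 tu, ← Nat.eq_of_mul_eq_mul_right pp.pos c2, mul_comm] at c1
  exact Nat.le_of_mul_le_mul_right c1 (Nat.pos_of_ne_zero relIndex_ne_zero')

theorem nm_cj (h : Nm T ≤ Nm D) : Nm (Cj g T) ≤ Nm (Cj g D) := fun k hk => by
  have e : ∀ X : Subgroup G, k ∈ Nm (Cj g X) ↔ g⁻¹ * k * g ∈ Nm X := fun X => by
    rw [← img_cj_eq_self, ← img_cj_eq_self, img_cj_cj]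
    refine ⟨fun a => Cj_inj (g := g) ?_, fun a => ?_⟩
    · rw [Cj, img_cj_cj, ← mul_assoc, ← mul_assoc, mul_inv_cancel, one_mul, a]
    · conv_rhs => rw [← a, Cj, img_cj_cj, ← mul_assoc, ← mul_assoc, mul_inv_cancel, one_mul]
  exact (e D).2 (h ((e T).1 hk))

theorem fn_of (hF : Sat (FT S) p) (hE : (FT S).IsEssential p E) (eN : NS S E = N) (h1 : D ≤ E) (h3 : N ≤ T)
    (h4 : T < S) (i1 : D.relIndex E = p) (i2 : E.relIndex N = p) (hD : Nm T ≤ Nm D) :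
    (FT S).IsFullyNormalized T := fn_iff.2 ⟨h4.le, fun T' φ hφ => by
  have pS := hF.pgroup (le_refl S)
  have h2 : E ≤ N := eN ▸ le_NS (hF.ess_lt hE).le
  obtain ⟨g, -, -, rfl⟩ := isoG_elt hφ
  have a : Cj g T ≤ S := hφ.le'
  obtain ⟨-, b⟩ := ess_cj hF hE (g := g) (eN ▸ (img_mono h3).trans a)
  have c := ns_idx pS (img_mono h1) (img_mono h2) (img_mono h3) a (idx_Cj.trans i1) (idx_Cj.trans i2)
    (eN ▸ b.le) (NS_le_norm.trans (nm_cj hD))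
  rw [card_eq_mul' (le_NS a), card_eq_mul' (le_NS h4.le), ← hφ.card_eq]
  exact Nat.mul_le_mul_left _ (c.trans (le_idx (pS.to_le NS_le) (lt_NS pS h4)))⟩

theorem ext_fl (hF : Sat (FT S) p) (hP : (FT S).IsFullyNormalized P) (h0 : Fr P ≤ X) (h1 : X ≤ Y) (h2 : Y ≤ P)
    (n : NS S P ≤ Ch P Y X) (hg : g ∈ Nm P) (g1 : g ∈ Nm Y) (g2 : g ∈ Nm X) (hc : Cop p g) :
    ∃ n ∈ Nm (NS S P), Cop p n ∧ n⁻¹ * g ∈ Cn P := by
  refine ext_cop hF hP hg hc ?_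
  rw [← le_antisymm (syl_ch hF hP h1 h2 (fun _ a => Tr.n1 (n a).2) fun _ a => Tr.n1 (n a).1.2)
    (sup_le n (Cn_le_Ch h0 h1 h2))]
  exact norm_Ch hg g1 g2

end CF.Mxc
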